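import Groth.Agent.Lib.CohFound.Devissage
import Groth.Agent.Lib.ModM1.Push
import Groth.Agent.Lib.TensorMod.PullStalk
import Groth.Prelude.Def_Curv2

/-!
# Relative global generation and the counit
-/

set_option autoImplicit false
set_option backward.isDefEq.respectTransparency false
set_option linter.style.haveILetI false

universe u

open CategoryTheory CategoryTheory.Limits AlgebraicGeometry TopologicalSpace Opposite

namespace Groth.Agent.GGen15

open Groth.Agent.M1 Groth.Agent.CohFound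

variable {X S : Scheme.{u}} (f : X ⟶ S) [QuasiCompact f] [QuasiSeparated f] {F : X.Modules}

/-- Germs of sections over the preimage of an affine open span the stalks. -/
theorem germ_span_of_epi_counit (hF : Coh.IsQCoh F)
    [Epi ((Scheme.Modules.pullbackPushforwardAdjunction f).counit.app F)]
    {U : S.Opens} (hU : IsAffineOpen U) (x : X) (hx : f x ∈ U) :
    Submodule.span (X.presheaf.stalk x) (Set.range (F.presheaf.germ (f ⁻¹ᵁ U) x hx)) =
      (⊤ : Submodule (X.presheaf.stalk x) (F.presheaf.stalk x)) := by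
  let ε := (Scheme.Modules.pullbackPushforwardAdjunction f).counit.app F
  haveI : Epi ε := ‹_›
  let G := (Scheme.Modules.pushforward f).obj F
  haveI : Coh.IsQCoh G := M1.isQCoh_push f hF
  let N := Submodule.span (X.presheaf.stalk x) (Set.range (F.presheaf.germ (f ⁻¹ᵁ U) x hx))
  refine eq_top_iff.2 fun b _ => ?_
  obtain ⟨a, rfl⟩ := stL_surjective_of_epi ε x b
  suffices h : ∀ a, stL ε x a ∈ N from h a
  intro a
  induction a using (M2.isBaseChange_stalkUnit f x G).inductionOn with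
  | zero => rw [map_zero]; exact N.zero_mem
  | add p q hp hq => rw [map_add]; exact N.add_mem hp hq
  | smul r p hp => rw [map_smul]; exact N.smul_mem r hp
  | tmul m =>
    obtain ⟨c₀, s, hc, hcm⟩ := M1.exists_germ_smul_eq G hU hx m
    let c := S.presheaf.germ U (f x) hx c₀
    have h1 : stL ε x (M2.stalkUnit f x G (G.presheaf.germ U (f x) hx s)) =
        F.presheaf.germ (f ⁻¹ᵁ U) x hx s := by
      rw [show M2.stalkUnit f x G (G.presheaf.germ U (f x) hx s) = _ from M2.stalkUnitHom_germ f x G hx s]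
      refine (M1.germ_naturality ε (f ⁻¹ᵁ U) x hx _).trans ?_
      refine congrArg (F.presheaf.germ (f ⁻¹ᵁ U) x hx) ?_
      exact congr(($((Scheme.Modules.pullbackPushforwardAdjunction f).right_triangle_components F)).app U s)
    obtain ⟨u, hu⟩ := hc.map (f.stalkMap x).hom
    have h2 : stL ε x (M2.stalkUnit f x G m) =
        (↑u⁻¹ : X.presheaf.stalk x) • F.presheaf.germ (f ⁻¹ᵁ U) x hx s := by
      rw [← h1, ← hcm, map_smul, ← algebraMap_smul (X.presheaf.stalk x) c, map_smul, ← mul_smul]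
      have : (↑u⁻¹ : X.presheaf.stalk x) * algebraMap (S.presheaf.stalk (f x)) (X.presheaf.stalk x) c = 1 := by
        rw [show algebraMap (S.presheaf.stalk (f x)) (X.presheaf.stalk x) c = ↑u from hu.symm, Units.inv_mul]
      rw [this, one_smul]
    rw [h2]
    exact N.smul_mem _ (Submodule.subset_span ⟨s, rfl⟩)

/-- An epimorphic counit gives global generation over affine opens. -/
theorem isGloballyGenerated_of_epi_counit (hF : Coh.IsQCoh F)
    [Epi ((Scheme.Modules.pullbackPushforwardAdjunction f).counit.app F)]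
    {U : S.Opens} (hU : IsAffineOpen U) : Curv2.IsGloballyGenerated (F.restrict (f ⁻¹ᵁ U).ι) := by
  let V := f ⁻¹ᵁ U
  let R := F.restrict V.ι
  refine ⟨Γ(R, ⊤), M1.freeHom (M := R) (fun s => s), ⟨fun {C : V.toScheme.Modules} (u v : R ⟶ C) huv => ?_⟩⟩
  have hs : ∀ s : Γ(R, ⊤), u.app ⊤ s = v.app ⊤ s := fun s => by
    have h := congrArg (fun φ => M1.ιF s ≫ φ) huv
    simp only [← Category.assoc, M1.ιF_freeHom, M1.secHom_comp] at h
    have h' := congrArg (fun φ : Coh.structureModule V.toScheme ⟶ C => φ.app ⊤ (M1.one ⊤)) h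
    simpa only [M1.secHom_app_one] using h'
  refine Scheme.Modules.hom_ext _ _ fun D => ?_
  ext t
  refine M1.section_ext _ _ fun y hy => ?_
  -- agreement on a neighbourhood of `y`
  let t' : Γ(F, V.ι ''ᵁ D) := t
  have hy' : V.ι y ∈ V.ι ''ᵁ D := ⟨y, hy, rfl⟩
  have hxU : f (V.ι y) ∈ U := y.2
  have hmem : F.presheaf.germ (V.ι ''ᵁ D) (V.ι y) hy' t' ∈
      Submodule.span (X.presheaf.stalk (V.ι y)) (Set.range (F.presheaf.germ V (V.ι y) hxU)) := by
    rw [germ_span_of_epi_counit f hF hU (V.ι y) hxU]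
    trivial
  suffices key : ∀ b ∈ Submodule.span (X.presheaf.stalk (V.ι y)) (Set.range (F.presheaf.germ V (V.ι y) hxU)),
      ∀ (D' : V.toScheme.Opens) (hy'' : y ∈ D') (t'' : Γ(R, D')),
        F.presheaf.germ (V.ι ''ᵁ D') (V.ι y) ⟨y, hy'', rfl⟩ (show Γ(F, V.ι ''ᵁ D') from t'') = b →
        C.presheaf.germ D' y hy'' (u.app D' t'') = C.presheaf.germ D' y hy'' (v.app D' t'') from
    key _ hmem D hy t rfl
  have hloc : ∀ (D₁ D₂ : V.toScheme.Opens) (h₁ : y ∈ D₁) (h₂ : y ∈ D₂) (a : Γ(R, D₁)) (b : Γ(R, D₂)),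
      F.presheaf.germ (V.ι ''ᵁ D₁) (V.ι y) ⟨y, h₁, rfl⟩ (show Γ(F, V.ι ''ᵁ D₁) from a) =
        F.presheaf.germ (V.ι ''ᵁ D₂) (V.ι y) ⟨y, h₂, rfl⟩ (show Γ(F, V.ι ''ᵁ D₂) from b) →
      ∀ w : R ⟶ C, C.presheaf.germ D₁ y h₁ (w.app D₁ a) = C.presheaf.germ D₂ y h₂ (w.app D₂ b) := by
    intro D₁ D₂ h₁ h₂ a b hab w
    obtain ⟨W, hW, i₁, i₂, e⟩ := F.presheaf.germ_eq (V.ι y) _ _ _ _ hab
    let D₃ : V.toScheme.Opens := V.ι ⁻¹ᵁ W
    have e₁ : D₃ ≤ D₁ := fun z hz => by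
      obtain ⟨z', hz', hzz⟩ := i₁.le hz
      exact V.ι.isOpenEmbedding.injective hzz ▸ hz'
    have e₂ : D₃ ≤ D₂ := fun z hz => by
      obtain ⟨z', hz', hzz⟩ := i₂.le hz
      exact V.ι.isOpenEmbedding.injective hzz ▸ hz'
    have hy₃ : y ∈ D₃ := hW
    have key : mres R e₁ a = mres R e₂ b := by
      have h3 := congrArg (mres F (show V.ι ''ᵁ D₃ ≤ W from fun _ ⟨z, hz, hzz⟩ => hzz ▸ hz)) e
      erw [M1.mres_mres, M1.mres_mres] at h3
      exact h3
    rw [← M1.germ_mres C e₁ hy₃ (w.app D₁ a), ← M1.germ_mres C e₂ hy₃ (w.app D₂ b), ← M1.app_mres,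
      ← M1.app_mres, key]
  intro b hb
  induction hb using Submodule.span_induction with
  | mem b hb =>
    obtain ⟨s, rfl⟩ := hb
    intro D' hy'' t'' ht
    let s' : Γ(R, ⊤) := mres F (M1.image_ι_top V).le s
    have e : F.presheaf.germ (V.ι ''ᵁ D') (V.ι y) ⟨y, hy'', rfl⟩ (show Γ(F, V.ι ''ᵁ D') from t'') =
        F.presheaf.germ (V.ι ''ᵁ ⊤) (V.ι y) ⟨y, trivial, rfl⟩ (show Γ(F, V.ι ''ᵁ ⊤) from s') := by
      rw [ht]
      exact (M1.germ_mres F (M1.image_ι_top V).le _ s).symm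
    rw [hloc D' ⊤ hy'' trivial t'' s' e u, hloc D' ⊤ hy'' trivial t'' s' e v, hs]
  | zero =>
    intro D' hy'' t'' ht
    have e : F.presheaf.germ (V.ι ''ᵁ D') (V.ι y) ⟨y, hy'', rfl⟩ (show Γ(F, V.ι ''ᵁ D') from t'') =
        F.presheaf.germ (V.ι ''ᵁ D') (V.ι y) ⟨y, hy'', rfl⟩ (show Γ(F, V.ι ''ᵁ D') from (0 : Γ(R, D'))) :=
      ht.trans (map_zero _).symm
    rw [hloc D' D' hy'' hy'' t'' 0 e u, hloc D' D' hy'' hy'' t'' 0 e v]
    simp only [map_zero]
  | add p q _ _ hp hq =>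
    intro D' hy'' t'' ht
    obtain ⟨Wp, hWp, sp, rfl⟩ := F.presheaf.germ_exist p
    obtain ⟨Wq, hWq, sq, rfl⟩ := F.presheaf.germ_exist q
    let E : V.toScheme.Opens := V.ι ⁻¹ᵁ (Wp ⊓ Wq)
    have hyE : y ∈ E := ⟨hWp, hWq⟩
    have hE : V.ι ''ᵁ E ≤ Wp ⊓ Wq := fun _ ⟨z, hz, hzz⟩ => hzz ▸ hz
    let a : Γ(R, E) := mres F (hE.trans inf_le_left) sp
    let c : Γ(R, E) := mres F (hE.trans inf_le_right) sq
    have ea : F.presheaf.germ (V.ι ''ᵁ E) (V.ι y) ⟨y, hyE, rfl⟩ (show Γ(F, V.ι ''ᵁ E) from a) =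
        F.presheaf.germ Wp (V.ι y) hWp sp := M1.germ_mres F (hE.trans inf_le_left) _ sp
    have ec : F.presheaf.germ (V.ι ''ᵁ E) (V.ι y) ⟨y, hyE, rfl⟩ (show Γ(F, V.ι ''ᵁ E) from c) =
        F.presheaf.germ Wq (V.ι y) hWq sq := M1.germ_mres F (hE.trans inf_le_right) _ sq
    have e : F.presheaf.germ (V.ι ''ᵁ D') (V.ι y) ⟨y, hy'', rfl⟩ (show Γ(F, V.ι ''ᵁ D') from t'') =
        F.presheaf.germ (V.ι ''ᵁ E) (V.ι y) ⟨y, hyE, rfl⟩ (show Γ(F, V.ι ''ᵁ E) from (a + c : Γ(R, E))) := by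
      rw [ht, ← ea, ← ec]
      exact (map_add _ _ _).symm
    rw [hloc D' E hy'' hyE t'' _ e u, hloc D' E hy'' hyE t'' _ e v, map_add, map_add, map_add, map_add,
      hp E hyE a ea, hq E hyE c ec]
  | smul r p _ hp =>
    intro D' hy'' t'' ht
    obtain ⟨Wr, hWr, cr, rfl⟩ := X.presheaf.germ_exist r
    obtain ⟨Wp, hWp, sp, rfl⟩ := F.presheaf.germ_exist p
    let E : V.toScheme.Opens := V.ι ⁻¹ᵁ (Wr ⊓ Wp)
    have hyE : y ∈ E := ⟨hWr, hWp⟩
    have hE : V.ι ''ᵁ E ≤ Wr ⊓ Wp := fun _ ⟨z, hz, hzz⟩ => hzz ▸ hz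
    let a : Γ(R, E) := mres F (hE.trans inf_le_right) sp
    let c₀ : Γ(X, V.ι ''ᵁ E) := ores (hE.trans inf_le_left) cr
    let c : Γ(V.toScheme, E) := (V.ι.appIso E).hom c₀
    have ea : F.presheaf.germ (V.ι ''ᵁ E) (V.ι y) ⟨y, hyE, rfl⟩ (show Γ(F, V.ι ''ᵁ E) from a) =
        F.presheaf.germ Wp (V.ι y) hWp sp := M1.germ_mres F (hE.trans inf_le_right) _ sp
    have ecs : (show Γ(F, V.ι ''ᵁ E) from (c • a : Γ(R, E))) =
        c₀ • (show Γ(F, V.ι ''ᵁ E) from a) := by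
      change (V.ι.appIso E).inv c • (show Γ(F, V.ι ''ᵁ E) from a) = _
      simp [c]
      rfl
    have e : F.presheaf.germ (V.ι ''ᵁ D') (V.ι y) ⟨y, hy'', rfl⟩ (show Γ(F, V.ι ''ᵁ D') from t'') =
        F.presheaf.germ (V.ι ''ᵁ E) (V.ι y) ⟨y, hyE, rfl⟩ (show Γ(F, V.ι ''ᵁ E) from (c • a : Γ(R, E))) := by
      rw [ht, ecs, M1.germ_smul, ea]
      congr 1
      exact (TopCat.Presheaf.germ_res_apply X.presheaf (homOfLE (hE.trans inf_le_left)) _ _ cr).symm
    rw [hloc D' E hy'' hyE t'' _ e u, hloc D' E hy'' hyE t'' _ e v, u.app_smul, v.app_smul, M1.germ_smul,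
      M1.germ_smul, hp E hyE a ea]

end Groth.Agent.GGen15
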